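import Cfsg.Agent.Lib.MOm.Spin
import Cfsg.Agent.Lib.Twisted.Gen2

/-!
The twisted spin group of type `D` is generated by two elements.
-/

set_option autoImplicit false

namespace Cfsg.Lib.MOm

open Cfsg.Lib.Chev Cfsg.Lib.Chev.RootSys Cfsg.Lib.Chev.PreSys Cfsg.Lib.Chev.ChevSys Subgroup Equiv
  Cfsg.Lib.Twisted Cfsg.Lib.Twisted.Twist Fin Matrix Cfsg.Lib.Unitary

variable {m : ℕ} (hm : 2 ≤ m + 1)

theorem two_P {n : ℕ} (r s : Rt (2 * n) false) : 2 * Rt.P r s = r.v ⬝ᵥ s.v := by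
  simp only [Rt.P_D, Rt.v, add_dotProduct, dotProduct_add, eps_dot]
  ring

theorem P_of_v {n : ℕ} {r s : Rt (2 * n) false} {a b c d : Fin (2 * n)} (h : r.v = eps a + eps b)
    (h' : s.v = eps c + eps d) : Rt.P r s = dl a c + dl b c + (dl a d + dl b d) := by
  have h1 := two_P r s
  simp only [h, h', add_dotProduct, dotProduct_add, eps_dot] at h1
  omega

theorem v_refl (s r : Rt (2 * (m + 1)) false) :
    ((rootD hm).refl s r).v = r.v - Rt.P s r • s.v := by
  have := congrArg (eucD hm).vec ((rootD hm).α_refl s r)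
  rw [map_sub, map_zsmul, pair_D] at this
  exact ((eucD hm).vec_α _).symm.trans (this.trans (by
    erw [(eucD hm).vec_α, (eucD hm).vec_α]; rfl))

theorem v_refl_refl {s s' : Rt (2 * (m + 1)) false} (h : Rt.P s s' = 0) (r : Rt (2 * (m + 1)) false) :
    ((rootD hm).refl s ((rootD hm).refl s' r)).v = r.v - Rt.P s r • s.v - Rt.P s' r • s'.v := by
  have h1 := two_P s ((rootD hm).refl s' r)
  rw [v_refl, dotProduct_sub, dotProduct_smul, ← two_P, ← two_P, h] at h1
  rw [v_refl, v_refl, show Rt.P s ((rootD hm).refl s' r) = Rt.P s r by simpa using h1, sub_right_comm]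

theorem rh_refl (s r : Rt (2 * (m + 1)) false) :
    rh ((rootD hm).refl s r) = (rootD hm).refl (rh s) (rh r) := Rt.v_injective (funext fun c => by
  rw [← sw_sw c, v_rh, v_refl, v_refl, P_rh]
  simp [v_rh])

theorem dl_em (a c : Fin (2 * m)) : dl (em a) (em c) = dl a c := by
  simp only [dl_def, em_val]; split_ifs <;> omega

theorem dl_em_a0 (a : Fin (2 * m)) : dl (em a) (a0 m) = 0 := dl_of_ne (em_ne_a0 a) (a0_ne_rev a)

theorem v_rh_rs (a : Fin (2 * m)) : (rh (rs a)).v = eps (em a) + eps (a0 m).rev := by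
  simp only [Rt.v, rh_val, rs, Rt.mk_val, rev_a0]
  split_ifs <;> simp [sw_em, sw_a0, add_comm]

/-- The two roots over a short root. -/
def shA (a : Fin (2 * m)) : Set (Rt (2 * (m + 1)) false) :=
  {r | ∃ e, (e = a0 m ∨ e = (a0 m).rev) ∧ r.v = eps (em a) + eps e}

theorem exists_swap {a b : Fin (2 * m)} (h1 : b ≠ a) (h2 : b ≠ a.rev) :
    ∃ w ∈ (symD hm).W1, ∀ c, ∀ r ∈ shA c, w r ∈ shA (swap a b (swap a.rev b.rev c)) := by
  let s : Rt (2 * (m + 1)) false := .mk (em a) (em b.rev) (.inl (em_inj.not.2 fun e => h2 (by simp [e])))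
    (em_rev a ▸ em_inj.not.2 (by simpa using h1))
  have hs : s.v = eps (em a) + eps (em b).rev := em_rev b ▸ Rt.v_mk ..
  have h3 : rh s = s := by
    by_cases e : em a ≤ em b.rev
    exacts [rh_of_em ((Rt.mk_val ..).trans (if_pos e)), rh_of_em ((Rt.mk_val ..).trans (if_neg e))]
  refine ⟨_, ⟨(rootD hm).refl_mem_W s, fun r => ((rh_refl hm s r).trans (by rw [h3]; rfl)).symm⟩,
    fun c r ⟨e, he, hr⟩ => ⟨e, he, ?_⟩⟩
  have h4 : ∀ x, dl (em x) e = 0 := fun x => by rcases he with rfl | rfl <;> simp [dl_em_a0]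
  have h5 := ne_rev_of_even a
  have h6 := ne_rev_of_even b
  have h7 : a ≠ b.rev := fun e => h2 (by simp [e])
  rw [v_refl, P_of_v hs hr, hr, hs]
  simp only [dl_rev_left, h4, dl_em]
  by_cases e1 : c = a
  · simp [e1, swap_apply_of_ne_of_ne h5 h7, dl_self h5, dl_of_ne h1 h7]
    abel
  by_cases e2 : c = b
  · simp [e2, swap_apply_of_ne_of_ne h2 h6, dl_self h6, dl_of_ne h1.symm h2]
    abel
  by_cases e3 : c = a.rev
  · simp [e3, swap_apply_of_ne_of_ne h7.symm h6.symm, dl_self h5, dl_of_ne h1 h7, em_rev]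
    abel
  by_cases e4 : c = b.rev
  · simp [e4, swap_apply_of_ne_of_ne h5.symm h2.symm, dl_self h6, dl_of_ne h1.symm h2, em_rev]
    abel
  simp [swap_apply_of_ne_of_ne e3 e4, swap_apply_of_ne_of_ne e1 e2, dl_of_ne (Ne.symm e1) e3,
    dl_of_ne (Ne.symm e2) e4]

theorem exists_flip (a : Fin (2 * m)) :
    ∃ w ∈ (symD hm).W1, ∀ c, ∀ r ∈ shA c, w r ∈ shA (swap a a.rev c) := by
  have hs : (rs a).v = eps (em a) + eps (a0 m) := Rt.v_mk ..
  have h0 := dl_self (ne_rev_of_even (a0 m))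
  have h3 := dl_self (ne_rev_of_even (em a))
  have h1 := v_refl_refl hm (s := rs a) (s' := rh (rs a)) (by
    simp [P_of_v hs (v_rh_rs a), h0, h3, dl_comm (a0 m) (em a), dl_em_a0])
  have h2 := fun r => (v_refl_refl hm (s := rh (rs a)) (s' := rs a) (by
    simp [P_of_v (v_rh_rs a) hs, h0, h3, dl_comm (a0 m) (em a), dl_em_a0]) r).trans (sub_right_comm ..)
  refine ⟨(rootD hm).refl (rs a) * (rootD hm).refl (rh (rs a)), ⟨mul_mem ((rootD hm).refl_mem_W _)
    ((rootD hm).refl_mem_W _), fun r => ?_⟩, fun c r ⟨e, he, hr⟩ => ⟨e.rev, by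
      rcases he with rfl | rfl <;> simp, ?_⟩⟩
  · change _ = rh ((rootD hm).refl _ _)
    rw [rh_refl, Perm.mul_apply, rh_refl, rh_rh]
    exact Rt.v_injective ((h1 _).trans (h2 _).symm)
  rw [Perm.mul_apply, h1, P_of_v hs hr, P_of_v (v_rh_rs a) hr, hr, hs, v_rh_rs]
  have h4 : ∀ x, dl (em x) e = 0 := fun x => by rcases he with rfl | rfl <;> simp [dl_em_a0]
  have h5 := ne_rev_of_even a
  have h6 : eps (em (swap a a.rev c)) = eps (em c) - (2 * dl a c) • eps (em a) := by
    by_cases e1 : c = a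
    · simp [e1, dl_self h5, em_rev, two_smul]
    by_cases e3 : c = a.rev
    · simp [e3, dl_self h5, em_rev, two_smul]
    simp [swap_apply_of_ne_of_ne e1 e3, dl_of_ne (Ne.symm e1) e3]
  simp only [dl_rev_left, h4, dl_em, dl_comm (a0 m) (em c), dl_em_a0, h6, eps_rev]
  rcases he with rfl | rfl <;> simp only [dl_rev_right, h0, eps_rev] <;> module

theorem exists_cycle (j : ℕ) (hj : j < m) : ∃ w ∈ (symD hm).W1, ∀ c d : Fin (2 * m),
    d.val = (if c.val < j then c.val + 1 else if c.val = j then 2 * m - 1 else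
      if c.val + j + 1 < 2 * m then c.val else if c.val + j + 1 = 2 * m then 0 else c.val - 1) →
    ∀ r ∈ shA c, w r ∈ shA d := by
  induction j with
  | zero =>
    obtain ⟨w, h1, h2⟩ := exists_flip hm ⟨0, by omega⟩
    refine ⟨w, h1, fun c d h r hr => ?_⟩
    convert h2 c r hr using 2
    simp only [swap_apply_def, Fin.ext_iff, apply_ite Fin.val, val_rev] at h ⊢
    split_ifs at h ⊢ <;> omega
  | succ j ih =>
    obtain ⟨w, h1, h2⟩ := ih (by omega)
    obtain ⟨w', h3, h4⟩ := exists_swap hm (a := ⟨j, by omega⟩) (b := ⟨j + 1, by omega⟩) (by simp)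
      (by simp only [ne_eq, Fin.ext_iff, val_rev]; omega)
    refine ⟨w * w', mul_mem h1 h3, fun c d h r hr => h2 _ d ?_ _ (h4 c r hr)⟩
    generalize he : swap _ _ (swap _ _ c) = e
    have he' : c.val = j ∧ e.val = j + 1 ∨ c.val = j + 1 ∧ e.val = j ∨
        c.val + j + 1 = 2 * m ∧ e.val + 1 = c ∨ c.val + j + 2 = 2 * m ∧ e.val = c + 1 ∨
        c.val ≠ j ∧ c.val ≠ j + 1 ∧ c.val + j + 1 ≠ 2 * m ∧ c.val + j + 2 ≠ 2 * m ∧ e.val = c := by
      clear h h2 h4 ih
      simp only [swap_apply_def, Fin.ext_iff, apply_ite Fin.val, val_rev] at he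
      split_ifs at he <;> omega
    clear he h2 h4 ih
    split_ifs at h ⊢ <;> omega

variable {hm} {κ : Type} [Fintype κ] [DecidableEq κ] {C : Car (2 * (m + 1)) κ} {K : Type*} [Field K]
  {G : Type*} [Group G] (X : (repD hm C).Real K G) {θ : K →+* K} {q : ℕ} (hθ : IsBar q θ)
include hθ

theorem twoGen_K0 (h3 : 3 ≤ m) : TwoGen (K0 X θ) := by
  have := hθ.finite
  have hq := hθ.two_le
  have hT := isTw_K0 X hθ
  obtain ⟨ξ, e1, e2⟩ := big_sq (F := K) (by rw [hθ.card]; nlinarith)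
  have e3 : θ ξ ≠ ξ := fun e => by
    have := orderOf_dvd_of_pow_eq_one (x := ξ) (Units.ext ((Units.val_pow_eq_pow_val ..).trans
      ((hθ.fixed_iff ξ.ne_zero).1 e)))
    rw [e1, hθ.card_sub_one] at this
    have := Nat.le_of_dvd (by omega) this
    nlinarith [show 0 < q - 1 by omega]
  let k : Fin m := ⟨m - 1, by omega⟩
  have hk : k.val + 1 = m := by simp only [k]; omega
  have h0 := (castSucc_lt_last k).ne
  let l : Kˣ := Units.map (θ : K →* K) ξ
  let c : Fin (m + 1) → Kˣ := Pi.mulSingle (last m) ξ * Pi.mulSingle k.castSucc l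
  have h1 : c ∈ (tw hm X θ).TFix := mem_TFix.2 fun i => by
    by_cases e : i = last m
    · simp [e, pf_last hk, c, h0, h0.symm, tw, l]
    by_cases e' : i = k.castSucc
    · simp [e', pf_castSucc hk, c, h0, h0.symm, tw, l, hθ.invol]
    have : (symD hm).π i = i := Fin.ext (by
      simp only [Fin.ext_iff, val_last, val_castSucc] at e e'
      simp only [symD, pf_val]
      split_ifs <;> omega)
    simp [this, c, e, e']
  let a : Fin (2 * m) := ⟨m - 1, by omega⟩
  have h4 : ((rootD hm).simple (last m)).v = eps (em a) + eps (a0 m) := congrArg₂ (eps · + eps ·)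
    (Fin.ext ((simple_val hm _).1.trans (by simp only [em_val, a, val_last]; split_ifs <;> omega)))
    (Fin.ext ((simple_val hm _).2.trans (by simp [a0]; omega)))
  have h5 : ((rootD hm).simple k.castSucc).v = eps (em a) + eps (a0 m).rev := congrArg₂ (eps · + eps ·)
    (Fin.ext ((simple_val hm _).1.trans (by
      simp only [em_val, a, val_castSucc]; split_ifs <;> omega)))
    (Fin.ext ((simple_val hm _).2.trans (by simp [a0]; omega)))
  have h6 : rh ((rootD hm).simple (last m)) = (rootD hm).simple k.castSucc := by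
    rw [← pf_last (hm := hm) hk]; exact rh_simple hm _
  have h7 : rh ((rootD hm).simple (last m)) ≠ (rootD hm).simple (last m) := by
    rw [h6]; exact (rootD hm).simple_injective.ne h0
  have h8 := dl_self (ne_rev_of_even (a0 m))
  have h2 : ∀ b e, ∀ r : Rt _ false, r.v = eps (em b) + eps e → dl (em a) e = 0 →
      (rootD hm).chr c r = ξ ^ (dl a b + dl (a0 m) e) * l ^ (dl a b - dl (a0 m) e) :=
    fun b e r hr he => by
      rw [chr_mul, Twisted.chr_mulSingle, Twisted.chr_mulSingle, pair_D, pair_D, P_of_v h4 hr,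
        P_of_v h5 hr]
      simp [he, dl_em, dl_comm (a0 m) (em b), dl_em_a0, sub_eq_add_neg]
  let x : K → G := gx X θ ((rootD hm).simple (last m))
  have hx : ∀ t, x t = X.sys.x ((rootD hm).simple (last m)) t *
      X.sys.x ((rootD hm).simple ((symD hm).π (last m))) (θ t) := fun t => by
    rw [pf_last hk, ← h6]; exact congrArg _ (if_neg h7)
  have x1 : ∀ t u, x (t + u) = x t * x u := fun t u => by
    simp only [x, gx, if_neg h7, map_add, X.sys.x_add]
    exact (commute_rh X _ u _).mul_mul_mul_comm _ _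
  have x2 : ∀ g ∈ K0 X θ, ∀ χ, X.sys.Acts g 1 χ → ∀ t,
      g * x t * g⁻¹ = x (χ ((rootD hm).simple (last m)) * t) := fun g hg χ hχ t => by
    rw [hx, hx, ← conj_mul, hχ.conj, hχ.conj, chi_π hT hg hχ, map_mul]
    rfl
  obtain ⟨w, w1, w2⟩ := exists_cycle hm (m - 1) (by omega)
  obtain ⟨n, hn, hn'⟩ := hT.exists_nw (inv_mem w1)
  obtain ⟨d, hd⟩ := hn'.exists_acts
  have hχ := X.hMul.acts_torus c
  have hg := torus_mem X.hMul hT A_orb h1
  have hg' := X.hMul.torus_mem_H c
  generalize X.hMul.torus c = g at hχ hg hg'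
  have a1 : X.sys.Acts (n * g * n⁻¹) 1 fun s => (rootD hm).chr c (w s) :=
    ((hd.mul hχ).mul hd.inv).congr (by simp) fun s => by simp
  have hx1 : x 1 ∈ K0 X θ := gx_mem X θ (absurd · h7)
  refine ⟨⟨g, hg⟩, ⟨x 1 * n, mul_mem hx1 hn⟩, ?_⟩
  generalize hA : Subgroup.closure (G := K0 X θ) _ = A
  have g1 : g ∈ A.map (K0 X θ).subtype :=
    ⟨⟨g, hg⟩, hA.le (Subgroup.subset_closure (by simp)), rfl⟩
  have g2 : x 1 * n ∈ A.map (K0 X θ).subtype :=
    ⟨⟨_, mul_mem hx1 hn⟩, hA.le (Subgroup.subset_closure (by simp)), rfl⟩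
  have hL : A.map (K0 X θ).subtype ≤ (tw hm X θ).Fix := (map_subtype_le _).trans hT.le_fix
  have g3 : ∀ t, x t ∈ A.map (K0 X θ).subtype := mem_of_seed x1 (k := g) (k' := n * g * n⁻¹)
    (by
      rw [h2 a _ _ h4 (dl_em_a0 a), h8, dl_self (ne_rev_of_even a)]
      simpa using e2)
    (by
      obtain ⟨e, he, hr⟩ := w2 a ⟨2 * m - 1, by omega⟩ (by simp [a]) _ ⟨_, .inl rfl, h4⟩
      have h9 : dl a ⟨2 * m - 1, by omega⟩ = 0 := by
        simp only [dl_def, a]; split_ifs <;> omega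
      rw [h2 _ _ _ hr (by rcases he with rfl | rfl <;> simp [dl_em_a0]), h9]
      rcases he with rfl | rfl <;>
        simpa [h8, mul_inv_eq_one, inv_mul_eq_one, Units.ext_iff, l] using e3.symm)
    (x2 g hg _ hχ) (x2 _ (mul_mem (mul_mem hn hg) (inv_mem hn)) _ a1)
    (X.hMul.H_comm hg' (X.sys.conj_mem_H hn'.mem_N hg')) g1
    (by simpa only [_root_.mul_inv_rev, mul_assoc] using mul_mem (mul_mem g2 g1) (inv_mem g2))
  have g4 : w ∈ WL X.sys (A.map (K0 X θ).subtype) :=
    (inv_mem_iff (H := WL _ _)).1 ⟨n, (mul_mem_cancel_left (g3 1)).1 g2, hn'⟩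
  have g5 : ∀ i (hi : i < 2 * m), X.sys.XS (shA ⟨if i < m then m - 1 - i else i, by
      split_ifs <;> omega⟩) ⊓ (tw hm X θ).Fix ≤ A.map (K0 X θ).subtype := fun i hi => by
    induction i with
    | zero =>
      refine inf_le_of_WL hL (A := posJ (rootD hm) ((symD hm).J k)) (fun y hy => ?_) (one_mem _) ?_
      · obtain ⟨t, u, rfl, -, rfl⟩ := (mem_X_two h0.symm (orb_two hk) (pf_last hk) (pf_castSucc hk)
          (A_orb _ _ (((orb_two hk _).1 (by simp)).trans ((orb_two hk _).1 (by simp)).symm) h0.symm)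
          X.faithful).1 hy
        have := g3 t
        rwa [hx, pf_last hk] at this
      · rintro r ⟨e, he, hr⟩
        rw [show (⟨_, _⟩ : Fin (2 * m)) = a from Fin.ext (by simp [a]; omega)] at hr
        rcases he with rfl | rfl
        · rw [Rt.v_injective (hr.trans h4.symm)]
          exact simple_mem_posJ ((orb_two hk _).1 (by simp))
        · rw [Rt.v_injective (hr.trans h5.symm)]
          exact simple_mem_posJ ((orb_two hk _).1 (by simp))
    | succ i ih =>
      refine inf_le_of_WL hL (ih (by omega)) g4 (w2 _ _ ?_)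
      simp only
      split_ifs <;> omega
  have g6 : ∀ b t, sK θ X b t ∈ A := fun b t => by
    have := g5 (if b.val < m then m - 1 - b else b) (by split_ifs <;> omega)
    rw [show (⟨_, _⟩ : Fin (2 * m)) = b from Fin.ext (by simp only; split_ifs <;> omega)] at this
    obtain ⟨y, hy, e⟩ := this (x := sK θ X b t) ⟨gx_mem_XS X θ (A := shA b)
      ⟨_, .inl rfl, Rt.v_mk ..⟩ ⟨_, .inr rfl, v_rh_rs b⟩ _, gx_fix X hθ (absurd · (rh_rs b))⟩
    exact Subtype.ext e ▸ hy
  obtain ⟨S, s1, s2, s3, -⟩ := exists_bsys X hθ h3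
  refine K0_eq_top X hθ g6 fun a b t h h' => ?_
  rw [← s3, S.x_eq h (s1 ▸ h'), s2, commutatorElement_def]
  exact mul_mem (mul_mem (mul_mem (g6 ..) (g6 ..)) (inv_mem (g6 ..))) (inv_mem (g6 ..))

end Cfsg.Lib.MOm
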